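import Mathlib.CategoryTheory.Functor.Flat
import Mathlib.CategoryTheory.Sites.Pullback
import Mathlib.CategoryTheory.Abelian.GrothendieckAxioms.Basic

/-!
Left Kan extension along a representably flat functor is left exact, with arbitrary universes.
-/

set_option autoImplicit false

universe v₁ v₂ v₃ u₁ u₂ u₃

open CategoryTheory CategoryTheory.Limits Opposite

namespace Groth.Agent.FlatLan

variable {C : Type u₁} [Category.{v₁} C] {D : Type u₂} [Category.{v₂} D]
  (E : Type u₃) [Category.{v₃} E]

set_option backward.defeqAttrib.useBackward true in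
set_option backward.isDefEq.respectTransparency false in
/-- The evaluation of `F.lan` at `X` is the colimit over costructured arrows. -/
noncomputable def lanEvaluationIso (F : C ⥤ D) (X : D)
    [∀ X : D, HasColimitsOfShape (CostructuredArrow F X) E] :
    F.lan ⋙ (evaluation D E).obj X ≅
      (Functor.whiskeringLeft _ _ E).obj (CostructuredArrow.proj F X) ⋙ colim :=
  NatIso.ofComponents (fun G =>
    IsColimit.coconePointUniqueUpToIso
    (Functor.isPointwiseLeftKanExtensionLeftKanExtensionUnit F G X)
    (colimit.isColimit _)) (fun {G₁ G₂} φ => by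
      apply (Functor.isPointwiseLeftKanExtensionLeftKanExtensionUnit F G₁ X).hom_ext
      intro T
      have h₁ := fun (G : C ⥤ E) => IsColimit.comp_coconePointUniqueUpToIso_hom
        (Functor.isPointwiseLeftKanExtensionLeftKanExtensionUnit F G X) (colimit.isColimit _) T
      have h₂ := congr_app (F.lanUnit.naturality φ) T.left
      dsimp at h₁ h₂ ⊢
      simp only [Category.assoc] at h₁ ⊢
      simp only [Functor.lan, Functor.lanUnit] at h₂ ⊢
      rw [reassoc_of% h₁, NatTrans.naturality_assoc, ← reassoc_of% h₂, h₁,
        ι_colimMap, Functor.whiskerLeft_app]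
      rfl)

/-- Left Kan extension along a representably flat functor preserves finite limits when filtered
colimits of the relevant shapes are exact. -/
theorem preservesFiniteLimits_lan (F : C ⥤ D) [RepresentablyFlat F] [HasFiniteLimits E]
    [∀ X : Dᵒᵖ, HasColimitsOfShape (CostructuredArrow F.op X) E]
    (hE : ∀ X : Dᵒᵖ, IsFiltered (CostructuredArrow F.op X) →
      HasExactColimitsOfShape (CostructuredArrow F.op X) E) :
    PreservesFiniteLimits (F.op.lan : (Cᵒᵖ ⥤ E) ⥤ Dᵒᵖ ⥤ E) := by
  constructor
  intro J _ _
  apply preservesLimitsOfShape_of_evaluation (F.op.lan : (Cᵒᵖ ⥤ E) ⥤ Dᵒᵖ ⥤ E) J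
  intro K
  have : IsFiltered (CostructuredArrow F.op K) :=
    IsFiltered.of_equivalence (structuredArrowOpEquivalence F (unop K))
  have := hE K this
  exact preservesLimitsOfShape_of_natIso (lanEvaluationIso E F.op K).symm

end Groth.Agent.FlatLan

namespace Groth.Agent.FlatLan

universe w

variable {C : Type u₁} [Category.{v₁} C] {D : Type u₂} [Category.{v₂} D]
  (E : Type u₃) [Category.{w} E]

/-- Filtered colimits of an essentially small shape are exact in an AB5 category. -/
theorem hasExactColimitsOfShape_of_essentiallySmall (K : Type u₁) [Category.{v₁} K]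
    [EssentiallySmall.{w} K] [IsFiltered K] [HasColimitsOfShape K E] [HasFilteredColimitsOfSize.{w, w} E]
    [AB5OfSize.{w, w} E] : HasExactColimitsOfShape K E :=
  have : IsFiltered (SmallModel.{w} K) := IsFiltered.of_equivalence (equivSmallModel.{w} K)
  HasExactColimitsOfShape.of_domain_equivalence E (equivSmallModel.{w} K).symm

end Groth.Agent.FlatLan
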